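import Groth.Agent.Lib.FiniteNhd12.Basic
import Groth.Agent.Lib.GrpdDense19.Pieces
import Groth.Agent.Lib.EtPic3.CurveGm
import Groth.Agent.Lib.Pic18.Chart
import Groth.Agent.Lib.VB17.Setup

/-!
# Covers of one-dimensional schemes adapted to a dense open
-/

set_option autoImplicit false
set_option linter.style.haveILetI false

universe u

open CategoryTheory AlgebraicGeometry TopologicalSpace

namespace Groth.Agent.DefCurve3

variable {X : Scheme.{u}}

/-- A dense open contains an affine open containing all generic points. -/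
theorem exists_affine_le_of_dense [IsNoetherian X] {U : X.Opens} (hU : Dense (U : Set X)) :
    ∃ D : X.Opens, IsAffineOpen D ∧ D ≤ U ∧ ∀ η : X, (∀ b, b ⤳ η → b = η) → η ∈ D := by
  haveI : NoetherianSpace U.toScheme := U.ι.isOpenEmbedding.isEmbedding.toIsInducing.noetherianSpace
  obtain ⟨W, hW, hgen⟩ := FiniteNhd12.exists_isAffineOpen_genericPoints (X := U.toScheme)
    NoetherianSpace.finite_irreducibleComponents
  refine ⟨U.ι ''ᵁ W, hW.image_of_isOpenImmersion U.ι, ?_, fun η hη => ?_⟩
  · rintro _ ⟨w, -, rfl⟩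
    exact w.2
  obtain ⟨O, hηO, hO⟩ := GrpdDense19.exists_open_generic (GrpdDense19.mem_genericPoints_of_forall hη)
  obtain ⟨z, hzO, hzU⟩ := hU.inter_open_nonempty _ O.2 ⟨η, hηO⟩
  have hηU : η ∈ U := (hO z hzO).mem_open U.2 hzU
  refine ⟨⟨η, hηU⟩, hgen (GrpdDense19.mem_genericPoints_of_forall fun b hb => Subtype.ext ?_), rfl⟩
  exact hη b.1 (hb.map U.ι.continuous)

/-- On a curve, a dense open is completed by affine opens meeting it in affine opens and each other only inside it. -/
theorem exists_cover [IsNoetherian X] (hdim : topologicalKrullDim X ≤ 1) {U : X.Opens} (hU : Dense (U : Set X)) :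
    ∃ (D : X.Opens) (n : ℕ) (V : Fin n → X.Opens), IsAffineOpen D ∧ D ≤ U ∧ (∀ i, IsAffineOpen (V i)) ∧
      (∀ i, IsAffineOpen (V i ⊓ D)) ∧ (∀ i j, i ≠ j → V i ⊓ V j ≤ D) ∧ D ⊔ ⨆ i, V i = ⊤ := by
  classical
  obtain ⟨D, hD, hDU, hgen⟩ := exists_affine_le_of_dense hU
  have hclosedpt : ∀ y : X, y ∉ D → IsClosed ({y} : Set X) := fun y hy => by
    by_contra h
    exact hy (hgen y fun b hb => EtPic3.isMaxPt_of_dim_le_one hdim h b hb)
  haveI hdisc : DiscreteTopology ↥((D : Set X)ᶜ) := by
    haveI : T1Space ↥((D : Set X)ᶜ) := ⟨fun z => by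
      rw [show ({z} : Set ↥((D : Set X)ᶜ)) = Subtype.val ⁻¹' {z.1} from Set.ext fun w => Subtype.coe_inj.symm]
      exact (hclosedpt z.1 z.2).preimage continuous_subtype_val⟩
    haveI : Finite ↥((D : Set X)ᶜ) := by
      obtain ⟨S, hS, -, hSi, hSU⟩ :=
        NoetherianSpace.exists_finite_set_isClosed_irreducible (show IsClosed ((D : Set X)ᶜ) from D.2.isClosed_compl)
      refine Set.Finite.to_subtype ?_
      rw [hSU]
      refine hS.sUnion fun t ht => Set.Subsingleton.finite ?_
      obtain ⟨η, hη⟩ := QuasiSober.sober (hSi t ht).closure isClosed_closure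
      have hηD : η ∈ (D : Set X)ᶜ :=
        closure_minimal ((Set.subset_sUnion_of_mem ht).trans hSU.symm.le) D.2.isClosed_compl
          (hη.symm ▸ subset_closure rfl)
      intro a ha b hb
      have h1 : ∀ z ∈ t, z = η := fun z hz => by
        have : z ∈ closure ({η} : Set X) := hη.symm ▸ subset_closure hz
        rwa [(hclosedpt η hηD).closure_eq] at this
      rw [h1 a ha, h1 b hb]
    infer_instance
  haveI : Finite ↥((D : Set X)ᶜ) := by
    haveI : CompactSpace ↥((D : Set X)ᶜ) :=
      isCompact_iff_compactSpace.1 (NoetherianSpace.isCompact _)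
    exact finite_of_compact_of_discrete
  haveI : QuasiCompact D.ι := by
    haveI : CompactSpace D.toScheme := isCompact_iff_compactSpace.1 (NoetherianSpace.isCompact _)
    exact quasiCompact_of_compactSpace _
  have hd : ∀ y : X, ringKrullDim (X.presheaf.stalk y) ≤ 1 := fun y =>
    (VB17.ringKrullDim_stalk_le_topologicalKrullDim y).trans hdim
  choose V f hV hxV hone hVD hle using fun y : ↥((D : Set X)ᶜ) =>
    Pic18.exists_chart D hdisc (x := y.1) y.2 (hd y.1) ⊤ (fun _ _ _ => trivial)
  obtain ⟨n, ⟨e⟩⟩ := Finite.exists_equiv_fin ↥((D : Set X)ᶜ)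
  refine ⟨D, n, fun i => V (e.symm i), hD, hDU, fun i => hV _, fun i => ?_, fun i j hij z hz => ?_, ?_⟩
  · rw [hVD]
    exact (hV _).basicOpen _
  · by_contra hzD
    exact hij (e.symm.injective (Subtype.ext ((hone _ z hz.1 hzD).symm.trans (hone _ z hz.2 hzD))))
  · refine top_le_iff.1 fun z _ => ?_
    by_cases hz : z ∈ D
    · exact Or.inl hz
    · refine Or.inr (Opens.mem_iSup.2 ⟨e ⟨z, hz⟩, ?_⟩)
      show z ∈ V (e.symm (e ⟨z, hz⟩))
      rw [e.symm_apply_apply]
      exact hxV ⟨z, hz⟩

end Groth.Agent.DefCurve3
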