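import Groth.Agent.Lib.DefH13.Up
import Groth.Agent.Lib.DefGlue3.AffineTangent

/-!
# Restriction of deformations along open immersions
-/

set_option autoImplicit false
set_option linter.style.haveILetI false
set_option backward.isDefEq.respectTransparency.types false

universe u

open CategoryTheory CategoryTheory.Limits AlgebraicGeometry TopologicalSpace

namespace Groth.Agent.DefCurve3

open ArtFun DefGlue3 DefH13

variable {k : Type u} [Field k] {X Y : Scheme.{u}} {x : X ⟶ Spec (CommRingCat.of k)}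
  {y : Y ⟶ Spec (CommRingCat.of k)} {A B : Art k k}

theorem range_comp_le (ξ : DefSch X x A) (j : Y ⟶ X) [IsOpenImmersion j] :
    Set.range (j ≫ ξ.i) ⊆ Set.range (up ξ j.opensRange).ι := by
  rintro _ ⟨v, rfl⟩
  rw [Scheme.Opens.range_ι]
  exact ⟨j v, ⟨v, rfl⟩, rfl⟩

/-- The restriction of a deformation along an open immersion. -/
noncomputable def pull (ξ : DefSch X x A) (j : Y ⟶ X) [IsOpenImmersion j] (hy : j ≫ x = y) : DefSch Y y A where
  total := up ξ j.opensRange
  f := (up ξ j.opensRange).ι ≫ ξ.f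
  flat := inferInstance
  i := IsOpenImmersion.lift (up ξ j.opensRange).ι (j ≫ ξ.i) (range_comp_le ξ j)
  isPullback := by
    have h : IsPullback (IsOpenImmersion.lift (up ξ j.opensRange).ι (j ≫ ξ.i) (range_comp_le ξ j)) j
        (up ξ j.opensRange).ι ξ.i :=
      IsOpenImmersion.isPullback _ _ _ _ (IsOpenImmersion.lift_fac _ _ _).symm (by
        rw [Scheme.Opens.opensRange_ι, pre_up])
    have := h.paste_vert ξ.isPullback
    rwa [hy] at this

variable (ξ : DefSch X x A) (j : Y ⟶ X) [IsOpenImmersion j] (hy : j ≫ x = y)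

/-- The inclusion of the restricted deformation. -/
noncomputable def pullι : (pull ξ j hy).total ⟶ ξ.total := (up ξ j.opensRange).ι

instance isOpenImmersion_pullι : IsOpenImmersion (pullι ξ j hy) :=
  (inferInstance : IsOpenImmersion (up ξ j.opensRange).ι)

theorem pullι_f : pullι ξ j hy ≫ ξ.f = (pull ξ j hy).f := rfl

theorem i_pullι : (pull ξ j hy).i ≫ pullι ξ j hy = j ≫ ξ.i := by
  have e := IsOpenImmersion.lift_fac (up ξ j.opensRange).ι (j ≫ ξ.i) (range_comp_le ξ j)
  exact e

theorem range_pullι : Set.range (pullι ξ j hy) = ξ.i '' Set.range j := Scheme.Opens.range_ι _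

variable {ξ j hy}

/-- Morphisms into restricted deformations. -/
theorem exists_lift_pull {η : DefSch X x B} {φ : B ⟶ A} {ζ : DefSch Y y A} (m : ζ.total ⟶ η.total)
    (hw : m ≫ η.f = ζ.f ≫ Art.specMap φ) (hi : ζ.i ≫ m = j ≫ η.i) :
    ∃ g : ζ.total ⟶ (pull η j hy).total, Over' φ (pull η j hy) ζ g ∧ g ≫ pullι η j hy = m := by
  have hr : Set.range m ⊆ Set.range (pullι η j hy) := by
    rintro _ ⟨z, rfl⟩
    obtain ⟨v, rfl⟩ := ζ.i.surjective z
    rw [range_pullι]
    exact ⟨j v, ⟨v, rfl⟩, (congrArg (fun m : Y ⟶ η.total => m v) hi).symm⟩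
  refine ⟨IsOpenImmersion.lift _ m hr, ⟨?_, ?_⟩, IsOpenImmersion.lift_fac _ _ _⟩
  · rw [← pullι_f η j hy, ← Category.assoc, IsOpenImmersion.lift_fac, hw]
  · rw [← cancel_mono (pullι η j hy), Category.assoc, IsOpenImmersion.lift_fac, hi, i_pullι]

theorem specMap_id : Art.specMap (𝟙 A : A ⟶ A) = 𝟙 (Art.spec A) := Spec.map_id _

/-- Restrictions along comparable open immersions. -/
theorem exists_pull_le {Z : Scheme.{u}} {z : Z ⟶ Spec (CommRingCat.of k)} (l : Z ⟶ X) [IsOpenImmersion l]
    (hz : l ≫ x = z) (c : Z ⟶ Y) (hc : c ≫ j = l) :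
    ∃ s : (pull ξ l hz).total ⟶ (pull ξ j hy).total, s ≫ pullι ξ j hy = pullι ξ l hz ∧
      (pull ξ l hz).i ≫ s = c ≫ (pull ξ j hy).i ∧ IsOpenImmersion s := by
  have hr : Set.range (pullι ξ l hz) ⊆ Set.range (pullι ξ j hy) := by
    rw [range_pullι, range_pullι]
    refine Set.image_mono ?_
    rw [← hc]
    exact Set.range_comp_subset_range c j
  refine ⟨IsOpenImmersion.lift _ _ hr, IsOpenImmersion.lift_fac _ _ _, ?_, ?_⟩
  · rw [← cancel_mono (pullι ξ j hy), Category.assoc, IsOpenImmersion.lift_fac, i_pullι, Category.assoc, i_pullι,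
      ← Category.assoc, hc]
  · haveI : IsOpenImmersion (IsOpenImmersion.lift (pullι ξ j hy) (pullι ξ l hz) hr ≫ pullι ξ j hy) := by
      rw [IsOpenImmersion.lift_fac]; infer_instance
    exact IsOpenImmersion.of_comp _ (pullι ξ j hy)

end Groth.Agent.DefCurve3
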