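import Groth.Agent.Lib.DefObs3.Theory

/-!
# Extensions of a deformation of a smooth affine scheme are isomorphic
-/

set_option autoImplicit false
set_option linter.style.haveILetI false
set_option backward.isDefEq.respectTransparency.types false

universe u

open CategoryTheory CategoryTheory.Limits AlgebraicGeometry TopologicalSpace IsLocalRing

namespace Groth.Agent.DefCurve3

open ArtFun ArtFun.Art DefGlue3 DefObs3 HilbRS3 HilbObs3
open DefH13 (Ret up iW gU)

variable {k : Type u} [Field k] {X : Scheme.{u}} {x : X ⟶ Art.specPt k} {A B : Art k k}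

theorem fromSpec_str {Z : Scheme.{u}} {C : Type u} [CommRing C] (f : Z ⟶ Spec (CommRingCat.of C)) {O : Z.Opens}
    (hO : IsAffineOpen O) : hO.fromSpec ≫ f = Spec.map (CommRingCat.ofHom (ThickAff3.str f O)) := by
  show _ = Spec.map ((Scheme.ΓSpecIso (CommRingCat.of C)).inv ≫ f.appLE ⊤ O le_top)
  rw [← IsAffineOpen.SpecMap_appLE_fromSpec f (isAffineOpen_top _) hO le_top, Spec.map_comp]
  refine congrArg (Spec.map (f.appLE ⊤ O le_top) ≫ ·) ?_
  rw [IsAffineOpen.fromSpec_top]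
  exact Scheme.isoSpec_Spec_inv (CommRingCat.of C)

theorem isIso_fromSpec_up [IsAffine X] (ξ : DefSch X x A) :
    IsIso (DefH13.isAffineOpen_up ξ (isAffineOpen_top X)).fromSpec := by
  haveI : Epi (DefH13.isAffineOpen_up ξ (isAffineOpen_top X)).fromSpec.base := (TopCat.epi_iff_surjective _).2 fun z => by
    obtain ⟨w, rfl⟩ := ξ.i.surjective z
    exact (IsAffineOpen.range_fromSpec _).symm.subset ⟨w, trivial, rfl⟩
  exact IsOpenImmersion.isIso _

/-- Two extensions along a surjection of a deformation of a smooth affine scheme are isomorphic. -/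
theorem exists_iso_of_smooth [IsAffine X] [Smooth x] {p : B ⟶ A} (hp : Function.Surjective p)
    {ξ : DefSch X x A} {η η' : DefSch X x B} {g : ξ.total ⟶ η.total} {g' : ξ.total ⟶ η'.total}
    (h : Over' p η ξ g) (h' : Over' p η' ξ g') : ∃ e : η.Iso η', g ≫ e.iso.hom = g' := by
  classical
  let W : X.affineOpens := ⟨⊤, isAffineOpen_top X⟩
  obtain ⟨R⟩ := exists_retractions ξ W
  obtain ⟨Ra, hRa⟩ := exists_ret_lift hp h W R
  obtain ⟨Rb, hRb⟩ := exists_ret_lift hp h' W R
  have key : ∀ {ζ : DefSch X x B} {m : ξ.total ⟶ ζ.total} (hm : Over' p ζ ξ m) (S : Ret ζ W.1)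
      (_ : ∀ W' hW r, gU hm W'.1 (S.app W' hW r) = R.app W' hW r) (z : BW x B W),
      gU hm W.1 (E S W le_rfl z) = E R W le_rfl (cπ x p W z) := fun {ζ m} hm S hS z =>
    bw_ext x (φ := (gU hm W.1).comp (E S W le_rfl)) (ψ := (E R W le_rfl).comp (cπ x p W)) (fun r => by
      show gU hm W.1 (E S W le_rfl (cι x B W r)) = E R W le_rfl (cπ x p W (cι x B W r))
      rw [E_cι, hS, cπ_cι, E_cι]) (fun a => by
      show gU hm W.1 (E S W le_rfl (cσ x B W a)) = E R W le_rfl (cπ x p W (cσ x B W a))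
      rw [E_cσ, DefH13.gU_str, cπ_cσ, E_cσ]) z
  let ψ : Γ(η'.total, up η' W.1) →+* Γ(η.total, up η W.1) :=
    (E Ra W le_rfl).comp (Eq' Rb W le_rfl).symm.toRingHom
  have hψg : ∀ z, gU h W.1 (ψ z) = gU h' W.1 z := fun z => by
    obtain ⟨w, rfl⟩ := (Eq' Rb W le_rfl).surjective z
    show gU h W.1 (E Ra W le_rfl ((Eq' Rb W le_rfl).symm (Eq' Rb W le_rfl w))) = gU h' W.1 (E Rb W le_rfl w)
    rw [RingEquiv.symm_apply_apply, key h Ra hRa, key h' Rb hRb]
  have hψσ : ∀ a : B, ψ (ThickAff3.str η'.f (up η' W.1) a) = ThickAff3.str η.f (up η W.1) a := fun a => by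
    show E Ra W le_rfl ((Eq' Rb W le_rfl).symm _) = _
    rw [← E_cσ Rb W le_rfl a,
      show (Eq' Rb W le_rfl).symm (E Rb W le_rfl (cσ x B W a)) = cσ x B W a from RingEquiv.symm_apply_apply _ _,
      E_cσ]
  haveI := isIso_fromSpec_up η
  haveI := isIso_fromSpec_up ξ
  let ha := DefH13.isAffineOpen_up η (isAffineOpen_top X)
  let hb := DefH13.isAffineOpen_up η' (isAffineOpen_top X)
  let d : η.total ⟶ η'.total := inv ha.fromSpec ≫ Spec.map (CommRingCat.ofHom ψ) ≫ hb.fromSpec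
  have hdf : d ≫ η'.f = η.f := by
    show (inv ha.fromSpec ≫ Spec.map (CommRingCat.ofHom ψ) ≫ hb.fromSpec) ≫ η'.f = η.f
    rw [Category.assoc, Category.assoc, IsIso.inv_comp_eq, fromSpec_str η'.f hb, fromSpec_str η.f ha, ← Spec.map_comp,
      ← CommRingCat.ofHom_comp]
    exact congrArg (fun φ => Spec.map (CommRingCat.ofHom φ)) (RingHom.ext hψσ)
  have hgd : g ≫ d = g' := by
    let hξ := DefH13.isAffineOpen_up ξ (isAffineOpen_top X)
    have e1 : hξ.fromSpec ≫ g = Spec.map (CommRingCat.ofHom (gU h W.1)) ≫ ha.fromSpec :=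
      (IsAffineOpen.SpecMap_appLE_fromSpec g ha hξ (DefH13.up_le h W.1)).symm
    have e2 : hξ.fromSpec ≫ g' = Spec.map (CommRingCat.ofHom (gU h' W.1)) ≫ hb.fromSpec :=
      (IsAffineOpen.SpecMap_appLE_fromSpec g' hb hξ (DefH13.up_le h' W.1)).symm
    rw [← cancel_epi hξ.fromSpec, e2, ← Category.assoc, e1, Category.assoc]
    show Spec.map _ ≫ ha.fromSpec ≫ inv ha.fromSpec ≫ _ = _
    rw [IsIso.hom_inv_id_assoc, ← Spec.map_comp_assoc, ← CommRingCat.ofHom_comp]
    exact congrArg (· ≫ hb.fromSpec) (congrArg (fun φ => Spec.map (CommRingCat.ofHom φ)) (RingHom.ext hψg))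
  have hdi : η.i ≫ d = η'.i := by rw [← h.hi, Category.assoc, hgd, h'.hi]
  haveI : IsIso d := isIso_of_hom d hdf hdi
  exact ⟨⟨asIso d, hdf, hdi⟩, hgd⟩

end Groth.Agent.DefCurve3
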