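import Groth.Agent.Lib.DefCurve3.Pieces
import Groth.Agent.Lib.DefCurve3.Restr
import Groth.Agent.Lib.DefCurve3.Unique
import Groth.Agent.Lib.DefGlue3.LCISmooth
import Groth.Agent.Lib.LocImm12.Glue

/-!
# Extending a deformation open by open
-/

set_option autoImplicit false
set_option linter.style.haveILetI false
set_option backward.isDefEq.respectTransparency.types false

universe u

open CategoryTheory CategoryTheory.Limits AlgebraicGeometry TopologicalSpace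

namespace Groth.Agent.DefCurve3

open ArtFun DefGlue3

variable {k : Type u} [Field k] {X : Scheme.{u}} {x : X ⟶ Spec (CommRingCat.of k)} {A B : Art k k}

/-- A deformation extends over an open of the closed fibre. -/
def Extends (p : B ⟶ A) (ξ : DefSch X x A) (U : X.Opens) : Prop :=
  ∃ (η : DefSch U.toScheme (U.ι ≫ x) B) (g : (pull ξ U.ι rfl).total ⟶ η.total), Over' p η (pull ξ U.ι rfl) g

variable {p : B ⟶ A} {ξ : DefSch X x A}

/-- An affine local complete intersection open. -/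
theorem extends_affine (hp : Function.Surjective p) {U : X.Opens} (hU : IsAffineOpen U)
    (hl : letI := (ThickAff3.str x U).toAlgebra; LCI.IsLCI k Γ(X, U)) : Extends p ξ U := by
  letI : Algebra k Γ(X, U) := (ThickAff3.str x U).toAlgebra
  let y₀ := DefAff3.str₀ k Γ(X, U)
  have he : hU.isoSpec.hom ≫ y₀ = U.ι ≫ x := by
    rw [← hU.isoSpec_hom_fromSpec, Category.assoc, fromSpec_str x hU]
  let ζ := DefGlue3.transport hU.isoSpec he (pull ξ U.ι rfl)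
  obtain ⟨u, hu⟩ := DefGlue3.isSmoothFunctor_defFunctor (Λ := k) Γ(X, U) hl p hp ζ.cl
  induction u using Quotient.inductionOn with
  | h 𝒴 =>
  obtain ⟨g, hg⟩ := exists_over_of_cl (φ := p) (ξ := 𝒴) (η := ζ) hu
  have he' : hU.isoSpec.symm.hom ≫ (U.ι ≫ x) = y₀ := by rw [← he, Iso.symm_hom, Iso.inv_hom_id_assoc]
  refine ⟨DefGlue3.transport hU.isoSpec.symm he' 𝒴, g, hg.w, ?_⟩
  show (pull ξ U.ι rfl).i ≫ g = hU.isoSpec.hom ≫ 𝒴.i
  rw [← hg.hi]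
  show _ = hU.isoSpec.hom ≫ (hU.isoSpec.inv ≫ (pull ξ U.ι rfl).i) ≫ g
  rw [Category.assoc, Iso.hom_inv_id_assoc]

/-- Extensions on two opens with smooth affine intersection glue. -/
theorem extends_sup (hp : Function.Surjective p) {U₁ U₂ : X.Opens} (hN : IsAffineOpen (U₁ ⊓ U₂))
    (hs : Smooth ((U₁ ⊓ U₂).ι ≫ x)) (h₁ : Extends p ξ U₁) (h₂ : Extends p ξ U₂) : Extends p ξ (U₁ ⊔ U₂) := by
  classical
  obtain ⟨η₁, g₁, hg₁⟩ := h₁
  obtain ⟨η₂, g₂, hg₂⟩ := h₂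
  let N := U₁ ⊓ U₂
  haveI : IsAffine N.toScheme := hN
  haveI : Smooth (N.ι ≫ x) := hs
  let c₁ : N.toScheme ⟶ U₁.toScheme := X.homOfLE inf_le_left
  let c₂ : N.toScheme ⟶ U₂.toScheme := X.homOfLE inf_le_right
  have hc₁ : c₁ ≫ U₁.ι = N.ι := X.homOfLE_ι _
  have hc₂ : c₂ ≫ U₂.ι = N.ι := X.homOfLE_ι _
  let U₃ := U₁ ⊔ U₂
  obtain ⟨s₁, hs₁, hs₁i, hs₁o⟩ := exists_pull_le (ξ := ξ) (j := U₁.ι) (hy := rfl) N.ι rfl c₁ hc₁
  obtain ⟨s₂, hs₂, hs₂i, hs₂o⟩ := exists_pull_le (ξ := ξ) (j := U₂.ι) (hy := rfl) N.ι rfl c₂ hc₂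
  obtain ⟨t₁, ht₁, ht₁i, ht₁o⟩ := exists_pull_le (ξ := ξ) (j := U₃.ι) (hy := rfl) U₁.ι rfl
    (X.homOfLE le_sup_left) (X.homOfLE_ι _)
  obtain ⟨t₂, ht₂, ht₂i, ht₂o⟩ := exists_pull_le (ξ := ξ) (j := U₃.ι) (hy := rfl) U₂.ι rfl
    (X.homOfLE le_sup_right) (X.homOfLE_ι _)
  have hy₁ : c₁ ≫ U₁.ι ≫ x = N.ι ≫ x := by rw [← Category.assoc, hc₁]
  have hy₂ : c₂ ≫ U₂.ι ≫ x = N.ι ≫ x := by rw [← Category.assoc, hc₂]
  let rN := pullι ξ N.ι (rfl : N.ι ≫ x = _)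
  obtain ⟨ga, hga, hgam⟩ := exists_lift_pull (η := η₁) (j := c₁) (hy := hy₁) (φ := p) (ζ := pull ξ N.ι rfl) (s₁ ≫ g₁)
    (by rw [Category.assoc, hg₁.w, ← pullι_f ξ U₁.ι rfl, ← pullι_f ξ N.ι rfl, ← hs₁]; simp only [Category.assoc])
    (by rw [← Category.assoc, hs₁i, Category.assoc, hg₁.hi])
  obtain ⟨gb, hgb, hgbm⟩ := exists_lift_pull (η := η₂) (j := c₂) (hy := hy₂) (φ := p) (ζ := pull ξ N.ι rfl) (s₂ ≫ g₂)
    (by rw [Category.assoc, hg₂.w, ← pullι_f ξ U₂.ι rfl, ← pullι_f ξ N.ι rfl, ← hs₂]; simp only [Category.assoc])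
    (by rw [← Category.assoc, hs₂i, Category.assoc, hg₂.hi])
  obtain ⟨e, he⟩ := exists_iso_of_smooth hp hga hgb
  let a := pullι η₁ c₁ hy₁
  let b := e.iso.hom ≫ pullι η₂ c₂ hy₂
  obtain ⟨Y, j₁, j₂, hj₁, hj₂, hpo, hcov, hint⟩ := LocImm12.exists_glue a b
  have hab : a ≫ η₁.f = b ≫ η₂.f := by
    show pullι η₁ c₁ hy₁ ≫ η₁.f = (e.iso.hom ≫ pullι η₂ c₂ hy₂) ≫ η₂.f
    rw [Category.assoc, pullι_f, pullι_f, e.hom_f]
  let f := hpo.desc η₁.f η₂.f hab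
  have hflat : Flat f := flat_of_pieces hcov f (by rw [hpo.inl_desc]; infer_instance)
    (by rw [hpo.inr_desc]; infer_instance)
  -- the two pieces of the restricted deformation
  let r₃ := pullι ξ U₃.ι (rfl : U₃.ι ≫ x = _)
  have hr : ∀ {V : X.Opens} (v : V.toScheme), pullι ξ V.ι rfl ((pull ξ V.ι rfl).i v) = ξ.i v.1 := fun {V} v =>
    congrArg (fun m : V.toScheme ⟶ ξ.total => m v) (i_pullι ξ V.ι rfl)
  have htcov : Set.range t₁ ∪ Set.range t₂ = Set.univ := Set.eq_univ_of_forall fun z => by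
    obtain ⟨v, rfl⟩ := (pull ξ U₃.ι rfl).i.surjective z
    rcases (show v.1 ∈ U₁ ⊔ U₂ from v.2) with hv | hv
    · refine Or.inl ⟨(pull ξ U₁.ι rfl).i ⟨v.1, hv⟩, ?_⟩
      refine r₃.isOpenEmbedding.injective ?_
      exact ((congrArg (fun m : (pull ξ U₁.ι rfl).total ⟶ ξ.total => m _) ht₁).trans (hr _)).trans (hr v).symm
    · refine Or.inr ⟨(pull ξ U₂.ι rfl).i ⟨v.1, hv⟩, ?_⟩
      refine r₃.isOpenEmbedding.injective ?_
      exact ((congrArg (fun m : (pull ξ U₂.ι rfl).total ⟶ ξ.total => m _) ht₂).trans (hr _)).trans (hr v).symm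
  have htN : ∀ q₁ q₂, t₁ q₁ = t₂ q₂ → ∃ n, s₁ n = q₁ ∧ s₂ n = q₂ := fun q₁ q₂ hq => by
    obtain ⟨v₁, rfl⟩ := (pull ξ U₁.ι rfl).i.surjective q₁
    obtain ⟨v₂, rfl⟩ := (pull ξ U₂.ι rfl).i.surjective q₂
    have h := congrArg r₃ hq
    have e₁ : r₃ (t₁ ((pull ξ U₁.ι rfl).i v₁)) = ξ.i v₁.1 :=
      (congrArg (fun m : (pull ξ U₁.ι rfl).total ⟶ ξ.total => m _) ht₁).trans (hr v₁)
    have e₂ : r₃ (t₂ ((pull ξ U₂.ι rfl).i v₂)) = ξ.i v₂.1 :=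
      (congrArg (fun m : (pull ξ U₂.ι rfl).total ⟶ ξ.total => m _) ht₂).trans (hr v₂)
    have hv : v₁.1 = v₂.1 := (DefH13.i_homeo ξ).injective (e₁.symm.trans (h.trans e₂))
    let n : N.toScheme := ⟨v₁.1, v₁.2, hv ▸ v₂.2⟩
    refine ⟨(pull ξ N.ι rfl).i n, (congrArg (fun m : N.toScheme ⟶ _ => m n) hs₁i).trans ?_,
      (congrArg (fun m : N.toScheme ⟶ _ => m n) hs₂i).trans ?_⟩
    · exact congrArg (pull ξ U₁.ι rfl).i (Subtype.ext (Scheme.homOfLE_apply _ n))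
    · exact congrArg (pull ξ U₂.ι rfl).i (Subtype.ext ((Scheme.homOfLE_apply _ n).trans hv))
  have hst : s₁ ≫ t₁ = s₂ ≫ t₂ := by
    rw [← cancel_mono r₃, Category.assoc, Category.assoc, ht₁, ht₂, hs₁, hs₂]
  have hm : s₁ ≫ g₁ ≫ j₁ = s₂ ≫ g₂ ≫ j₂ := by
    rw [← Category.assoc, ← hgam, ← Category.assoc s₂, ← hgbm, Category.assoc, Category.assoc, ← he, Category.assoc]
    exact congrArg (ga ≫ ·) (hpo.w.trans (Category.assoc _ _ _))
  obtain ⟨g, hgl, hgr⟩ := exists_desc₂ htcov s₁ s₂ htN hst (g₁ ≫ j₁) (g₂ ≫ j₂) hm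
  have hg₂inj : Function.Injective g₂ := (haveI := hg₂.isClosedImmersion hp; g₂.isClosedEmbedding.injective)
  have hg₁inj : Function.Injective g₁ := (haveI := hg₁.isClosedImmersion hp; g₁.isClosedEmbedding.injective)
  have hA : ∀ w, ∃ n, ga n = w := hga.surjective
  have hsA : ∀ n, a (ga n) = g₁ (s₁ n) := fun n =>
    congrArg (fun m : (pull ξ N.ι rfl).total ⟶ η₁.total => m n) hgam
  have hsB : ∀ n, b (ga n) = g₂ (s₂ n) := fun n =>
    congrArg (fun m : (pull ξ N.ι rfl).total ⟶ η₂.total => m n)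
      (((Category.assoc _ _ _).symm.trans (congrArg (· ≫ pullι η₂ c₂ hy₂) he)).trans hgbm : ga ≫ b = s₂ ≫ g₂)
  have hz : ∀ n, t₁ (s₁ n) = t₂ (s₂ n) := fun n =>
    congrArg (fun m : (pull ξ N.ι rfl).total ⟶ (pull ξ U₃.ι rfl).total => m n) hst
  have hp₁ : IsPullback g₁ t₁ j₁ g := by
    refine IsOpenImmersion.isPullback _ _ _ _ hgl (Opens.ext (Set.Subset.antisymm ?_ ?_))
    · rintro z ⟨y₁, hy₁'⟩
      rcases htcov.symm.subset (Set.mem_univ z) with ⟨q, rfl⟩ | ⟨q, rfl⟩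
      · exact ⟨q, rfl⟩
      · have : j₁ y₁ = j₂ (g₂ q) :=
          hy₁'.trans (congrArg (fun m : (pull ξ U₂.ι rfl).total ⟶ Y => m q) hgr)
        obtain ⟨w, -, hw⟩ := hint _ _ this
        obtain ⟨n, rfl⟩ := hA w
        exact ⟨s₁ n, (hz n).trans (congrArg t₂ (hg₂inj ((hsB n).symm.trans hw)))⟩
    · rintro _ ⟨q, rfl⟩
      exact ⟨g₁ q, congrArg (fun m : (pull ξ U₁.ι rfl).total ⟶ Y => m q) hgl.symm⟩
  have hp₂ : IsPullback g₂ t₂ j₂ g := by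
    refine IsOpenImmersion.isPullback _ _ _ _ hgr (Opens.ext (Set.Subset.antisymm ?_ ?_))
    · rintro z ⟨y₂, hy₂'⟩
      rcases htcov.symm.subset (Set.mem_univ z) with ⟨q, rfl⟩ | ⟨q, rfl⟩
      · have : j₁ (g₁ q) = j₂ y₂ :=
          ((congrArg (fun m : (pull ξ U₁.ι rfl).total ⟶ Y => m q) hgl).symm.trans hy₂'.symm)
        obtain ⟨w, hw, -⟩ := hint _ _ this
        obtain ⟨n, rfl⟩ := hA w
        exact ⟨s₂ n, (hz n).symm.trans (congrArg t₁ (hg₁inj ((hsA n).symm.trans hw)))⟩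
      · exact ⟨q, rfl⟩
    · rintro _ ⟨q, rfl⟩
      exact ⟨g₂ q, congrArg (fun m : (pull ξ U₂.ι rfl).total ⟶ Y => m q) hgr.symm⟩
  have hpb : IsPullback g (pull ξ U₃.ι rfl).f f (Art.specMap p) := by
    refine isPullback_of_pieces hcov hp₁.flip hp₂.flip ?_ ?_
    · rw [hpo.inl_desc, ← pullι_f ξ U₃.ι rfl, ← Category.assoc, ht₁, pullι_f]
      exact hg₁.isPullback
    · rw [hpo.inr_desc, ← pullι_f ξ U₃.ι rfl, ← Category.assoc, ht₂, pullι_f]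
      exact hg₂.isPullback
  refine ⟨{ total := Y, f := f, flat := hflat, i := (pull ξ U₃.ι rfl).i ≫ g, isPullback := ?_ }, g, hpb.w, rfl⟩
  have := (pull ξ U₃.ι rfl).isPullback.paste_horiz hpb
  rwa [Art.specRes_comp] at this

/-- An extension over the whole scheme. -/
theorem exists_over_of_extends_top (h : Extends p ξ ⊤) :
    ∃ (η : DefSch X x B) (g : ξ.total ⟶ η.total), Over' p η ξ g := by
  obtain ⟨η, g, hg⟩ := h
  let r := pullι ξ (⊤ : X.Opens).ι (rfl : (⊤ : X.Opens).ι ≫ x = _)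
  haveI : Epi r.base := (TopCat.epi_iff_surjective _).2 fun z => by
    obtain ⟨w, rfl⟩ := ξ.i.surjective z
    exact (range_pullι ξ (⊤ : X.Opens).ι rfl).symm.subset ⟨w, ⟨⟨w, trivial⟩, rfl⟩, rfl⟩
  haveI : IsIso r := IsOpenImmersion.isIso _
  have he : X.topIso.hom ≫ x = (⊤ : X.Opens).ι ≫ x := rfl
  refine ⟨DefGlue3.transport X.topIso he η, inv r ≫ g, ?_, ?_⟩
  · show (inv r ≫ g) ≫ η.f = _
    rw [Category.assoc, hg.w, IsIso.inv_comp_eq, ← Category.assoc, pullι_f]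
  · show ξ.i ≫ inv r ≫ g = X.topIso.inv ≫ η.i
    rw [← hg.hi, ← cancel_epi X.topIso.hom, Iso.hom_inv_id_assoc, ← Category.assoc,
      show X.topIso.hom ≫ ξ.i = (pull ξ (⊤ : X.Opens).ι rfl).i ≫ r from (i_pullι ξ (⊤ : X.Opens).ι rfl).symm,
      Category.assoc, IsIso.hom_inv_id_assoc]

end Groth.Agent.DefCurve3
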