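import Groth.Agent.Lib.CI2.SyntKoszul
import Groth.Agent.Lib.CI2.KoszulFlat
import Groth.Agent.Lib.CI2.KRPres
import Groth.Agent.Lib.ThickAff3.Gamma
import Groth.Prelude.Def_RegImm

/-!
# Affine opens of syntomic schemes over a field are local complete intersections
-/

set_option autoImplicit false
set_option linter.style.haveILetI false

universe u

open CategoryTheory AlgebraicGeometry

namespace Groth.Agent.DefCurve3

/-- Local complete intersections along an isomorphism of the base rings. -/
theorem isLCI_of_base_equiv {R R' S : Type u} [CommRing R] [CommRing R'] [CommRing S] [Algebra R S] [Algebra R' S]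
    (e : R ≃+* R') (he : ∀ r, algebraMap R' S (e r) = algebraMap R S r) (h : LCI.IsLCI R' S) : LCI.IsLCI R S := by
  obtain ⟨-, n, f, hf, hKR⟩ := h
  let g : MvPolynomial (Fin n) R →ₐ[R] S := MvPolynomial.aeval fun i => f (MvPolynomial.X i)
  let E := MvPolynomial.mapEquiv (Fin n) e
  have hg : g.toRingHom = f.toRingHom.comp E.toRingHom := MvPolynomial.ringHom_ext
    (fun r => by
      show g (MvPolynomial.C r) = f (MvPolynomial.map e.toRingHom (MvPolynomial.C r))
      rw [MvPolynomial.map_C]
      exact (g.commutes r).trans ((he r).symm.trans (f.commutes (e r)).symm))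
    (fun i => by
      show g (MvPolynomial.X i) = f (MvPolynomial.map e.toRingHom (MvPolynomial.X i))
      rw [MvPolynomial.map_X]
      exact MvPolynomial.aeval_X _ i)
  have hgs : Function.Surjective g := by
    show Function.Surjective g.toRingHom
    rw [hg]
    exact hf.comp E.surjective
  refine ⟨Algebra.FiniteType.of_surjective g hgs, n, g, hgs, ?_⟩
  rw [hg]
  exact (CI2.isKR_ker_comp_equiv _ E).2 hKR

variable {k : Type u} [Field k] {X : Scheme.{u}} (x : X ⟶ Spec (CommRingCat.of k))

/-- The algebra of an affine open of a syntomic scheme over a field. -/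
theorem isLCI_str (hlci : ∀ p : X, Synt.IsSyntomicAt x p) {U : X.Opens} (hU : IsAffineOpen U) :
    letI := (ThickAff3.str x U).toAlgebra
    LCI.IsLCI k Γ(X, U) := by
  have hK : ∀ p : X, Synt.IsKoszulAt x p := fun p => by
    obtain ⟨U₀, V₀, e, hp, h⟩ := hlci p
    letI : Algebra Γ(Spec (CommRingCat.of k), V₀.1) Γ(X, U₀.1) := (x.appLE V₀.1 U₀.1 e).hom.toAlgebra
    exact CI2.isKoszulAt_of_isLCI x U₀.2 V₀.2 e hp (CI2.isLCI_of_isSyntomic h)
  have h := CI2.isLCI_appLE_of_isKoszulAt x hK hU (isAffineOpen_top _) le_top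
  letI : Algebra Γ(Spec (CommRingCat.of k), ⊤) Γ(X, U) := (x.appLE ⊤ U le_top).hom.toAlgebra
  letI : Algebra k Γ(X, U) := (ThickAff3.str x U).toAlgebra
  exact isLCI_of_base_equiv (Scheme.ΓSpecIso (CommRingCat.of k)).symm.commRingCatIsoToRingEquiv (fun _ => rfl) h

end Groth.Agent.DefCurve3
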