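import Groth.Agent.Lib.DefCurve3.Glue
import Groth.Agent.Lib.DefCurve3.Cover
import Groth.Agent.Lib.DefCurve3.LCI

/-!
# Deformations of generically smooth local complete intersection curves are unobstructed
-/

set_option autoImplicit false
set_option linter.style.haveILetI false
set_option backward.isDefEq.respectTransparency.types false

universe u

open CategoryTheory CategoryTheory.Limits AlgebraicGeometry TopologicalSpace

namespace Groth.Agent.DefCurve3

open ArtFun DefGlue3

variable {k : Type u} [Field k] {X : Scheme.{u}} {x : X ⟶ Spec (CommRingCat.of k)} {A B : Art k k}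

/-- Extension along a surjection over a curve. -/
theorem exists_over_of_curve [LocallyOfFiniteType x] [QuasiCompact x] (hdim : topologicalKrullDim X ≤ 1)
    (hlci : ∀ q : X, Synt.IsSyntomicAt x q) {U : X.Opens} (hU : Dense (U : Set X)) (hsm : Smooth (U.ι ≫ x))
    {p : B ⟶ A} (hp : Function.Surjective p) (ξ : DefSch X x A) :
    ∃ (η : DefSch X x B) (g : ξ.total ⟶ η.total), Over' p η ξ g := by
  classical
  haveI : IsLocallyNoetherian X := LocallyOfFiniteType.isLocallyNoetherian x
  haveI : CompactSpace X := QuasiCompact.compactSpace_of_compactSpace x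
  haveI : IsNoetherian X := {}
  obtain ⟨D, n, V, hD, hDU, hV, hVD, hVV, htop⟩ := exists_cover hdim hU
  have haff : ∀ {W : X.Opens}, IsAffineOpen W → Extends p ξ W := fun hW =>
    extends_affine hp hW (isLCI_str x hlci hW)
  have key : ∀ s : Finset (Fin n), Extends p ξ (D ⊔ s.sup V) := by
    intro s
    induction s using Finset.induction with
    | empty => rw [Finset.sup_empty, sup_bot_eq]; exact haff hD
    | insert i s hi ih =>
      have e : (D ⊔ s.sup V) ⊓ V i = V i ⊓ D := by
        refine le_antisymm ?_ (le_inf (inf_le_right.trans le_sup_left) inf_le_left)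
        rw [inf_comm, inf_sup_left, Finset.sup_inf_distrib_left]
        refine sup_le le_rfl (Finset.sup_le fun j hj => le_inf inf_le_left (hVV i j ?_))
        rintro rfl
        exact hi hj
      rw [Finset.sup_insert, sup_left_comm, sup_comm]
      refine extends_sup hp (e ▸ hVD i) ?_ ih (haff (hV i))
      rw [e, ← X.homOfLE_ι (inf_le_right.trans hDU : V i ⊓ D ≤ U), Category.assoc]
      haveI := hsm
      infer_instance
  refine exists_over_of_extends_top (?_ : Extends p ξ ⊤)
  rw [← htop, ← Finset.sup_univ_eq_iSup]
  exact key _

/-- The deformation functor of a generically smooth local complete intersection curve is smooth. -/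
theorem isSmoothFunctor_defFunctor [LocallyOfFiniteType x] [QuasiCompact x] (hdim : topologicalKrullDim X ≤ 1)
    (hlci : ∀ q : X, Synt.IsSyntomicAt x q) {U : X.Opens} (hU : Dense (U : Set X)) (hsm : Smooth (U.ι ≫ x)) :
    IsSmoothFunctor (defFunctor (Λ := k) X x) := by
  intro B A p hp v
  induction v using Quotient.inductionOn with
  | h ξ =>
    obtain ⟨η, g, hg⟩ := exists_over_of_curve hdim hlci hU hsm hp ξ
    exact ⟨η.cl, hg.cl_map⟩

end Groth.Agent.DefCurve3
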