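import Mathlib.AlgebraicGeometry.Restrict
import Mathlib.AlgebraicGeometry.Gluing
import Mathlib.AlgebraicGeometry.Limits
import Mathlib.AlgebraicGeometry.Morphisms.Flat

/-!
# Schemes covered by two open pieces
-/

set_option autoImplicit false
set_option linter.style.haveILetI false

universe u

open CategoryTheory CategoryTheory.Limits AlgebraicGeometry

namespace Groth.Agent.DefCurve3

variable {T T₁ T₂ N : Scheme.{u}} (a₁ : T₁ ⟶ T) (a₂ : T₂ ⟶ T) [IsOpenImmersion a₁] [IsOpenImmersion a₂]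

/-- The family of the two pieces. -/
def piece (T₁ T₂ : Scheme.{u}) : Bool → Scheme.{u}
  | true => T₁
  | false => T₂

/-- The maps of the two pieces. -/
def pieceMap : ∀ b, piece T₁ T₂ b ⟶ T
  | true => a₁
  | false => a₂

instance isOpenImmersion_pieceMap : ∀ b, IsOpenImmersion (pieceMap a₁ a₂ b)
  | true => inferInstanceAs (IsOpenImmersion a₁)
  | false => inferInstanceAs (IsOpenImmersion a₂)

/-- The cover by two pieces. -/
noncomputable def cover₂ (hcov : Set.range a₁ ∪ Set.range a₂ = Set.univ) : T.OpenCover :=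
  Scheme.Cover.mkOfCovers Bool (piece T₁ T₂) (pieceMap a₁ a₂)
    (fun t => (hcov.symm.subset (Set.mem_univ t)).elim (fun ⟨u, hu⟩ => ⟨true, u, hu⟩) fun ⟨u, hu⟩ => ⟨false, u, hu⟩)
    (isOpenImmersion_pieceMap a₁ a₂)

variable {a₁ a₂} (hcov : Set.range a₁ ∪ Set.range a₂ = Set.univ) (c₁ : N ⟶ T₁) (c₂ : N ⟶ T₂)
  [IsOpenImmersion c₁] (hc : c₁ ≫ a₁ = c₂ ≫ a₂)

include hc in
theorem isPullback_of_inter (hN : ∀ t₁ t₂, a₁ t₁ = a₂ t₂ → ∃ n, c₁ n = t₁ ∧ c₂ n = t₂) :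
    IsPullback c₂ c₁ a₂ a₁ := by
  refine IsOpenImmersion.isPullback _ _ _ _ hc ?_
  refine TopologicalSpace.Opens.ext (Set.Subset.antisymm ?_ ?_)
  · rintro t ⟨t₂, ht⟩
    obtain ⟨n, hn, -⟩ := hN t t₂ ht.symm
    exact ⟨n, hn⟩
  · rintro _ ⟨n, rfl⟩
    exact ⟨c₂ n, congrArg (fun m : N ⟶ T => m n) hc.symm⟩

include hcov in
/-- Morphisms out of a scheme covered by two pieces. -/
theorem exists_desc₂ {Z : Scheme.{u}} (hN : ∀ t₁ t₂, a₁ t₁ = a₂ t₂ → ∃ n, c₁ n = t₁ ∧ c₂ n = t₂)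
    (hc : c₁ ≫ a₁ = c₂ ≫ a₂) (m₁ : T₁ ⟶ Z) (m₂ : T₂ ⟶ Z) (hm : c₁ ≫ m₁ = c₂ ≫ m₂) :
    ∃ m : T ⟶ Z, a₁ ≫ m = m₁ ∧ a₂ ≫ m = m₂ := by
  have h := isPullback_of_inter c₁ c₂ hc hN
  let f : ∀ b, piece T₁ T₂ b ⟶ Z := fun b => match b with
    | true => m₁
    | false => m₂
  refine ⟨(cover₂ a₁ a₂ hcov).glueMorphisms f ?_, ?_, ?_⟩
  · rintro (_ | _) (_ | _)
    · exact congrArg (· ≫ m₂) ((cancel_mono a₂).1 pullback.condition)
    · show pullback.fst a₂ a₁ ≫ m₂ = pullback.snd a₂ a₁ ≫ m₁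
      rw [← cancel_epi h.isoPullback.hom, IsPullback.isoPullback_hom_fst_assoc,
        IsPullback.isoPullback_hom_snd_assoc, hm]
    · show pullback.fst a₁ a₂ ≫ m₁ = pullback.snd a₁ a₂ ≫ m₂
      rw [← cancel_epi h.flip.isoPullback.hom, IsPullback.isoPullback_hom_fst_assoc,
        IsPullback.isoPullback_hom_snd_assoc, hm]
    · exact congrArg (· ≫ m₁) ((cancel_mono a₁).1 pullback.condition)
  · exact Scheme.Cover.ι_glueMorphisms (cover₂ a₁ a₂ hcov) f _ true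
  · exact Scheme.Cover.ι_glueMorphisms (cover₂ a₁ a₂ hcov) f _ false

include hcov in
theorem hom_ext₂ {Z : Scheme.{u}} {m m' : T ⟶ Z} (h₁ : a₁ ≫ m = a₁ ≫ m') (h₂ : a₂ ≫ m = a₂ ≫ m') : m = m' :=
  Scheme.Cover.hom_ext (cover₂ a₁ a₂ hcov) m m' fun
    | true => h₁
    | false => h₂

include hcov in
theorem flat_of_pieces {S : Scheme.{u}} (f : T ⟶ S) (h₁ : Flat (a₁ ≫ f)) (h₂ : Flat (a₂ ≫ f)) : Flat f :=
  IsZariskiLocalAtSource.of_openCover (P := @Flat) (cover₂ a₁ a₂ hcov) fun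
    | true => h₁
    | false => h₂

include hcov in
/-- A square that is cartesian over both pieces is cartesian. -/
theorem isPullback_of_pieces {W Y S : Scheme.{u}} {g : W ⟶ T} {q : W ⟶ Y} {f : T ⟶ S} {s : Y ⟶ S}
    {W₁ W₂ : Scheme.{u}} {b₁ : W₁ ⟶ W} {b₂ : W₂ ⟶ W} {g₁ : W₁ ⟶ T₁} {g₂ : W₂ ⟶ T₂}
    (p₁ : IsPullback b₁ g₁ g a₁) (p₂ : IsPullback b₂ g₂ g a₂)
    (h₁ : IsPullback g₁ (b₁ ≫ q) (a₁ ≫ f) s) (h₂ : IsPullback g₂ (b₂ ≫ q) (a₂ ≫ f) s) : IsPullback g q f s := by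
  have key : ∀ {W' T' : Scheme.{u}} {a : T' ⟶ T} {b : W' ⟶ W} {g' : W' ⟶ T'} [HasPullback g a],
      IsPullback b g' g a → IsPullback g' (b ≫ q) (a ≫ f) s →
        IsPullback (pullback.snd g a) (pullback.fst g a ≫ q) (a ≫ f) s := fun {W' T' a b g'} _ p h =>
    h.of_iso p.isoPullback (Iso.refl _) (Iso.refl _) (Iso.refl _)
      (by simp only [Iso.refl_hom, Category.comp_id, IsPullback.isoPullback_hom_snd])
      (by simp only [Iso.refl_hom, Category.comp_id, IsPullback.isoPullback_hom_fst_assoc])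
      (by simp) (by simp)
  refine Scheme.isPullback_of_openCover g q f s (cover₂ a₁ a₂ hcov) fun
    | true => key p₁ h₁
    | false => key p₂ h₂

end Groth.Agent.DefCurve3
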